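/-
Étale and unramified local homomorphisms of noetherian local rings.
-/
import Groth.Agent.FlatLib.SchemeFlat

set_option autoImplicit false
set_option backward.isDefEq.respectTransparency false

universe u

open IsLocalRing

namespace EtLocalLib

variable {A B : Type u} [CommRing A] [CommRing B] [Algebra A B]

theorem exists_basicOpen_flat [Algebra.FinitePresentation A B] (q : Ideal B) [q.IsPrime]
    [Module.Flat A (Localization.AtPrime q)] :
    ∃ g, g ∉ q ∧ Module.Flat A (Localization.Away g) := by
  have hq : (⟨q, inferInstance⟩ : PrimeSpectrum B) ∈ FlatLib.flatLocus A B B :=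
    (FlatLib.mem_flatLocus_self_iff _).2 ‹_›
  obtain ⟨_, ⟨g, rfl⟩, hqg, hg⟩ :=
    PrimeSpectrum.isTopologicalBasis_basic_opens.exists_subset_of_mem_open hq
      (FlatLib.isOpen_flatLocus_fp (R := A) (S := B) (M := B))
  refine ⟨g, hqg, ?_⟩
  refine Module.flat_of_isLocalized_maximal (R := A) (S := Localization.Away g)
    (M := Localization.Away g) (fun m _ => Localization.AtPrime m)
    (fun m _ => Algebra.linearMap _ _) fun m _ => ?_
  let P := m.comap (algebraMap B (Localization.Away g))
  have hgP : g ∉ P := fun h => Ideal.IsPrime.ne_top (I := m) inferInstance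
    (Ideal.eq_top_of_isUnit_mem _ h (IsLocalization.Away.algebraMap_isUnit g))
  have hflat : Module.Flat A (Localization.AtPrime P) :=
    (FlatLib.mem_flatLocus_self_iff (⟨P, inferInstance⟩ : PrimeSpectrum B)).1 (hg hgP)
  have : IsLocalization.AtPrime (Localization.AtPrime m) P :=
    IsLocalization.isLocalization_isLocalization_atPrime_isLocalization
      (Submonoid.powers g) (Localization.AtPrime m) m
  exact Module.Flat.of_linearEquiv
    (((IsLocalization.algEquiv P.primeCompl (Localization.AtPrime P)
      (Localization.AtPrime m)).restrictScalars A).toLinearEquiv).symm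

theorem isEtaleAt_of_flat [Algebra.FinitePresentation A B] (q : Ideal B) [q.IsPrime]
    [Module.Flat A (Localization.AtPrime q)] [Algebra.IsUnramifiedAt A q] :
    Algebra.IsEtaleAt A q := by
  obtain ⟨g, hgq, hflat⟩ := exists_basicOpen_flat (A := A) q
  let q' := q.map (algebraMap B (Localization.Away g))
  have hdisj : Disjoint (Submonoid.powers g : Set B) q :=
    (Ideal.disjoint_powers_iff_notMem_of_isPrime _).mpr hgq
  have : q'.IsPrime := IsLocalization.isPrime_of_isPrime_disjoint _ _ _ ‹_› hdisj
  have hcomap : q'.comap (algebraMap B (Localization.Away g)) = q :=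
    IsLocalization.comap_map_of_isPrime_disjoint (Submonoid.powers g) _ ‹_› hdisj
  have : IsLocalization.AtPrime (Localization.AtPrime q') q := by
    convert IsLocalization.isLocalization_isLocalization_atPrime_isLocalization
      (Submonoid.powers g) (Localization.AtPrime q') q'
    exact hcomap.symm
  let e := (IsLocalization.algEquiv q.primeCompl (Localization.AtPrime q)
    (Localization.AtPrime q')).restrictScalars A
  have : Algebra.IsUnramifiedAt A q' := Algebra.FormallyUnramified.of_equiv e
  have : Algebra.IsEtaleAt A q' := Algebra.IsEtaleAt.of_isUnramifiedAt_of_flat q'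
  exact Algebra.FormallyEtale.of_equiv e.symm

theorem flat_of_isEtaleAt [Algebra.FinitePresentation A B] (q : Ideal B) [q.IsPrime]
    [Algebra.IsEtaleAt A q] : Module.Flat A (Localization.AtPrime q) := by
  obtain ⟨f, hf, het⟩ := Algebra.exists_etale_of_isEtaleAt (R := A) q
  let φ : Localization.Away f →ₐ[B] Localization.AtPrime q :=
    IsLocalization.liftAlgHom (M := Submonoid.powers f) (f := Algebra.ofId _ _) fun y =>
      IsLocalization.map_units (M := q.primeCompl) (Localization.AtPrime q)
        ⟨y.1, fun h => by
          obtain ⟨n, hn⟩ := y.2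
          exact hf (Ideal.IsPrime.mem_of_pow_mem ‹_› n (by rw [show f ^ n = y.1 from hn]; exact h))⟩
  algebraize [φ.toRingHom]
  have : IsScalarTower B (Localization.Away f) (Localization.AtPrime q) :=
    .of_algebraMap_eq fun x => (φ.commutes x).symm
  have : IsScalarTower A (Localization.Away f) (Localization.AtPrime q) := .to₁₃₄ _ B _ _
  have : IsLocalization (Algebra.algebraMapSubmonoid (Localization.Away f) q.primeCompl)
      (Localization.AtPrime q) :=
    IsLocalization.isLocalization_of_submonoid_le (Localization.Away f) (Localization.AtPrime q)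
      (Submonoid.powers f) q.primeCompl (Submonoid.powers_le.2 hf)
  have : Module.Flat (Localization.Away f) (Localization.AtPrime q) :=
    IsLocalization.flat _ (Algebra.algebraMapSubmonoid (Localization.Away f) q.primeCompl)
  exact Module.Flat.trans A (Localization.Away f) _

/-- The criterion at a prime. -/
theorem isEtaleAt_iff [IsNoetherianRing A] [Algebra.FiniteType A B]
    (p : Ideal A) [p.IsPrime] (q : Ideal B) [q.IsPrime] [q.LiesOver p]
    [Algebra (Localization.AtPrime p) (Localization.AtPrime q)]
    [Localization.AtPrime.IsLiesOverAlgebra p q] :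
    Algebra.IsEtaleAt A q ↔
      Module.Flat (Localization.AtPrime p) (Localization.AtPrime q) ∧
        p.map (algebraMap A (Localization.AtPrime q)) =
          IsLocalRing.maximalIdeal (Localization.AtPrime q) ∧
        Module.Finite p.ResidueField q.ResidueField ∧
        Algebra.IsSeparable p.ResidueField q.ResidueField := by
  have : Algebra.FinitePresentation A B := Algebra.FinitePresentation.of_finiteType.mp ‹_›
  have hf : Module.Flat (Localization.AtPrime p) (Localization.AtPrime q) ↔
      Module.Flat A (Localization.AtPrime q) :=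
    Module.flat_iff_of_isLocalization (Localization.AtPrime p) p.primeCompl _
  constructor
  · intro h
    have : Algebra.IsUnramifiedAt A q := inferInstance
    obtain ⟨h1, h2⟩ := (Algebra.isUnramifiedAt_iff_map_eq A p q).1 this
    exact ⟨hf.2 (flat_of_isEtaleAt q), h2, inferInstance, h1⟩
  · rintro ⟨h1, h2, -, h4⟩
    have : Algebra.IsUnramifiedAt A q := (Algebra.isUnramifiedAt_iff_map_eq A p q).2 ⟨h4, h2⟩
    have := hf.1 h1
    exact isEtaleAt_of_flat q

/-- A local essentially finite type algebra is a localisation of a finite type one at a prime. -/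
theorem exists_model [IsLocalRing B] [Algebra.EssFiniteType A B] :
    ∃ (C : Type u) (_ : CommRing C) (_ : Algebra A C) (_ : Algebra.FiniteType A C)
      (q : Ideal C) (_ : q.IsPrime), Nonempty (B ≃ₐ[A] Localization.AtPrime q) := by
  let C := Algebra.EssFiniteType.subalgebra A B
  let q : Ideal C := (maximalIdeal B).comap (algebraMap C B)
  have heq : q.primeCompl = Algebra.EssFiniteType.submonoid A B := by
    ext x
    exact notMem_maximalIdeal
  have : IsLocalization.AtPrime B q := by
    show IsLocalization q.primeCompl B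
    rw [heq]
    exact Algebra.EssFiniteType.isLocalization A B
  exact ⟨C, inferInstance, inferInstance, inferInstance, q, inferInstance,
    ⟨(IsLocalization.algEquiv q.primeCompl B (Localization.AtPrime q)).restrictScalars A⟩⟩

/-- Unramified local homomorphisms are quotients of localised standard étale algebras. -/
theorem exists_standardEtale_quotient [IsLocalRing A] [IsLocalRing B] [IsLocalHom (algebraMap A B)]
    [Algebra.EssFiniteType A B]
    (hm : (maximalIdeal A).map (algebraMap A B) = maximalIdeal B)
    [Algebra.IsSeparable (ResidueField A) (ResidueField B)] :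
    ∃ (P : StandardEtalePair A) (𝔮 : Ideal P.Ring) (_ : 𝔮.IsPrime)
      (I : Ideal (Localization.AtPrime 𝔮)), Nonempty (B ≃ₐ[A] (Localization.AtPrime 𝔮 ⧸ I)) := by
  have hunr : Algebra.FormallyUnramified A B :=
    Algebra.FormallyUnramified.iff_map_maximalIdeal_eq.mpr ⟨‹_›, hm⟩
  obtain ⟨C, _, _, _, q, _, ⟨e⟩⟩ := exists_model (A := A) (B := B)
  have : Algebra.IsUnramifiedAt A q := Algebra.FormallyUnramified.of_equiv e
  obtain ⟨f, hf, P, φ, hφ⟩ := Algebra.IsUnramifiedAt.exists_hasStandardEtaleSurjectionOn (R := A) q
  let ψ₀ : Localization.Away f →ₐ[C] Localization.AtPrime q :=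
    IsLocalization.liftAlgHom (M := Submonoid.powers f) (f := Algebra.ofId _ _) fun y =>
      IsLocalization.map_units (M := q.primeCompl) (Localization.AtPrime q)
        ⟨y.1, fun h => by
          obtain ⟨n, hn⟩ := y.2
          exact hf (Ideal.IsPrime.mem_of_pow_mem ‹_› n (by rw [show f ^ n = y.1 from hn]; exact h))⟩
  let ψ : P.Ring →ₐ[A] Localization.AtPrime q := (ψ₀.restrictScalars A).comp φ
  let 𝔮 : Ideal P.Ring := (maximalIdeal (Localization.AtPrime q)).comap ψ
  have hu : ∀ y : 𝔮.primeCompl, IsUnit (ψ y) := fun y => notMem_maximalIdeal.1 y.2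
  let χ : Localization.AtPrime 𝔮 →ₐ[A] Localization.AtPrime q :=
    IsLocalization.liftAlgHom (M := 𝔮.primeCompl) (f := ψ) hu
  have hχ : ∀ x, χ (algebraMap P.Ring _ x) = ψ x := IsLocalization.lift_eq hu
  have hχs : Function.Surjective χ := by
    intro z
    obtain ⟨x, s, rfl⟩ := IsLocalization.exists_mk'_eq q.primeCompl z
    obtain ⟨x', hx'⟩ := hφ (algebraMap C _ x)
    obtain ⟨s', hs'⟩ := hφ (algebraMap C _ s.1)
    have hx : ψ x' = algebraMap C _ x := by
      show ψ₀ (φ x') = _
      rw [hx', AlgHom.commutes]
    have hs : ψ s' = algebraMap C _ s.1 := by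
      show ψ₀ (φ s') = _
      rw [hs', AlgHom.commutes]
    have hs𝔮 : s' ∈ 𝔮.primeCompl := fun h => by
      have : ψ s' ∈ maximalIdeal (Localization.AtPrime q) := h
      rw [hs] at this
      have h2 : s.1 ∈ Ideal.under C (maximalIdeal (Localization.AtPrime q)) := this
      rw [IsLocalization.AtPrime.comap_maximalIdeal (Localization.AtPrime q) q] at h2
      exact s.2 h2
    refine ⟨IsLocalization.mk' _ x' ⟨s', hs𝔮⟩, ?_⟩
    rw [IsLocalization.eq_mk'_iff_mul_eq, ← hs, ← hx, ← hχ, ← hχ, ← map_mul,
      IsLocalization.mk'_spec]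
  exact ⟨P, 𝔮, inferInstance, RingHom.ker χ.toRingHom,
    ⟨e.trans (Ideal.quotientKerAlgEquivOfSurjective hχs).symm⟩⟩

/-- Étale local homomorphisms are localised standard étale algebras. -/
theorem exists_standardEtale [IsLocalRing A] [IsLocalRing B] [IsNoetherianRing A]
    [IsLocalHom (algebraMap A B)] [Algebra.EssFiniteType A B] [Module.Flat A B]
    (hm : (maximalIdeal A).map (algebraMap A B) = maximalIdeal B)
    [Algebra.IsSeparable (ResidueField A) (ResidueField B)] :
    ∃ (P : StandardEtalePair A) (𝔮 : Ideal P.Ring) (_ : 𝔮.IsPrime),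
      Nonempty (B ≃ₐ[A] Localization.AtPrime 𝔮) := by
  have hunr : Algebra.FormallyUnramified A B :=
    Algebra.FormallyUnramified.iff_map_maximalIdeal_eq.mpr ⟨‹_›, hm⟩
  obtain ⟨C, _, _, _, q, _, ⟨e⟩⟩ := exists_model (A := A) (B := B)
  have : Algebra.FinitePresentation A C := Algebra.FinitePresentation.of_finiteType.mp ‹_›
  have : Algebra.IsUnramifiedAt A q := Algebra.FormallyUnramified.of_equiv e
  have : Module.Flat A (Localization.AtPrime q) :=
    Module.Flat.of_linearEquiv e.toLinearEquiv.symm
  have := isEtaleAt_of_flat (A := A) q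
  obtain ⟨f, hf, ⟨⟨pres⟩⟩⟩ := Algebra.IsEtaleAt.exists_isStandardEtale (R := A) q
  let q₁ := q.map (algebraMap C (Localization.Away f))
  have hdisj : Disjoint (Submonoid.powers f : Set C) q :=
    (Ideal.disjoint_powers_iff_notMem_of_isPrime _).mpr hf
  have : q₁.IsPrime := IsLocalization.isPrime_of_isPrime_disjoint _ _ _ ‹_› hdisj
  have hcomap : q₁.comap (algebraMap C (Localization.Away f)) = q :=
    IsLocalization.comap_map_of_isPrime_disjoint (Submonoid.powers f) _ ‹_› hdisj
  have : IsLocalization.AtPrime (Localization.AtPrime q₁) q := by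
    convert IsLocalization.isLocalization_isLocalization_atPrime_isLocalization
      (Submonoid.powers f) (Localization.AtPrime q₁) q₁
    exact hcomap.symm
  let e₁ := (IsLocalization.algEquiv q.primeCompl (Localization.AtPrime q)
    (Localization.AtPrime q₁)).restrictScalars A
  let r := pres.equivRing
  obtain ⟨P, 𝔮, hP, ⟨e₂⟩⟩ : ∃ (P : StandardEtalePair A) (𝔮 : Ideal P.Ring) (_ : 𝔮.IsPrime),
      Nonempty (Localization.AtPrime q₁ ≃ₐ[A] Localization.AtPrime 𝔮) := by
    refine ⟨pres.P, q₁.comap r.symm.toAlgHom, inferInstance, ?_⟩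
    exact ⟨(IsLocalization.algEquivOfAlgEquiv (M := (q₁.comap r.symm.toAlgHom).primeCompl)
      (T := q₁.primeCompl) (Localization.AtPrime (q₁.comap r.symm.toAlgHom))
      (Localization.AtPrime q₁) r.symm (by
        refine Submonoid.ext fun x => ?_
        constructor
        · rintro ⟨y, hy, rfl⟩
          exact hy
        · intro hx
          refine ⟨r x, fun h => hx ?_, r.symm_apply_apply x⟩
          simpa using h)).symm⟩
  exact ⟨P, 𝔮, hP, ⟨(e.trans e₁).trans e₂⟩⟩

end EtLocalLib
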