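/-
Vanishing of the module of differentials of a quotient of a polynomial ring at a prime.
-/
import Mathlib

set_option autoImplicit false
set_option backward.isDefEq.respectTransparency false

universe u

open KaehlerDifferential

namespace EtLocalLib

theorem ker_map_le {R P B : Type u} [CommRing R] [CommRing P] [CommRing B] [Algebra R P]
    [Algebra R B] [Algebra P B] [IsScalarTower R P B]
    (h : Function.Surjective (algebraMap P B)) :
    LinearMap.ker (KaehlerDifferential.map R R P B) ≤
      Submodule.span P (D R P '' (RingHom.ker (algebraMap P B) : Set P)) ⊔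
        RingHom.ker (algebraMap P B) • ⊤ := by
  classical
  intro x hx
  rw [KaehlerDifferential.ker_map_of_surjective R P B h] at hx
  obtain ⟨x, hx, rfl⟩ := hx
  let σ := Function.surjInv h
  have hσ : ∀ c, algebraMap P B (σ c) = c := Function.surjInv_eq h
  have hdec : Finsupp.linearCombination P (D R P) x =
      x.sum (fun a r => r • D R P (a - σ (algebraMap P B a))) +
        (x.mapDomain (algebraMap P B)).sum (fun c r => r • D R P (σ c)) := by
    rw [Finsupp.sum_mapDomain_index (by simp) (fun _ _ _ => add_smul ..), ← Finsupp.sum_add,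
      Finsupp.linearCombination_apply]
    refine Finsupp.sum_congr fun a _ => ?_
    rw [map_sub, smul_sub, sub_add_cancel]
  rw [hdec]
  refine Submodule.add_mem_sup (Submodule.sum_mem _ fun a _ => Submodule.smul_mem _ _
    (Submodule.subset_span ⟨_, ?_, rfl⟩)) (Submodule.sum_mem _ fun c _ => ?_)
  · simp [hσ]
  · refine Submodule.smul_mem_smul ?_ Submodule.mem_top
    have := DFunLike.congr_fun (hx : _ = (0 : B →₀ B)) c
    simpa [Finsupp.lmapDomain] using this

theorem kaehler_iff {A B : Type u} [CommRing A] [CommRing B]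
    [Algebra A B] (n : ℕ) (φ : MvPolynomial (Fin n) A →ₐ[A] B) (hφ : Function.Surjective φ)
    (q : Ideal B) [q.IsPrime] :
    Subsingleton (LocalizedModule q.primeCompl (KaehlerDifferential A B)) ↔
      Submodule.span (Localization.AtPrime (q.comap φ.toRingHom))
        ((LocalizedModule.mkLinearMap (q.comap φ.toRingHom).primeCompl
            (KaehlerDifferential A (MvPolynomial (Fin n) A))) ''
          ((KaehlerDifferential.D A (MvPolynomial (Fin n) A)) '' (RingHom.ker φ.toRingHom : Set (MvPolynomial (Fin n) A)))) = ⊤ := by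
  let Q : Ideal (MvPolynomial (Fin n) A) := q.comap φ.toRingHom
  have hQ : Q.IsPrime := inferInstanceAs (q.comap φ.toRingHom).IsPrime
  algebraize [φ.toRingHom]
  have : IsScalarTower A (MvPolynomial (Fin n) A) B :=
    .of_algebraMap_eq fun a => (φ.commutes a).symm
  let S₀ := Submodule.span (MvPolynomial (Fin n) A)
    (D A (MvPolynomial (Fin n) A) '' (RingHom.ker φ.toRingHom : Set (MvPolynomial (Fin n) A)))
  let f := LocalizedModule.mkLinearMap Q.primeCompl (KaehlerDifferential A (MvPolynomial (Fin n) A))
  let π := KaehlerDifferential.map A A (MvPolynomial (Fin n) A) B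
  have hπ : Function.Surjective π := KaehlerDifferential.map_surjective_of_surjective A A _ B hφ
  have hle : S₀ ≤ LinearMap.ker π := Submodule.span_le.2 (by
    rintro _ ⟨g, hg, rfl⟩
    show π _ = 0
    rw [KaehlerDifferential.map_D, show algebraMap (MvPolynomial (Fin n) A) B g = 0 from hg,
      map_zero])
  rw [show Submodule.span (Localization.AtPrime (q.comap φ.toRingHom))
      ((LocalizedModule.mkLinearMap (q.comap φ.toRingHom).primeCompl _) '' (D A _ '' _)) =
      S₀.localized' (Localization.AtPrime Q) Q.primeCompl f from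
    (Submodule.localized'_span (Localization.AtPrime Q) Q.primeCompl f _).symm]
  rw [LocalizedModule.subsingleton_iff]
  constructor
  · intro hB
    refine top_le_iff.1 (Submodule.le_of_le_smul_of_le_jacobson_bot (Module.Finite.fg_top)
      (IsLocalRing.maximalIdeal_le_jacobson ⊥) ?_)
    rintro z -
    obtain ⟨⟨x, s⟩, rfl⟩ := IsLocalizedModule.mk'_surjective Q.primeCompl f z
    show IsLocalizedModule.mk' f x s ∈ _
    obtain ⟨b, hb, hbx⟩ := hB (π x)
    obtain ⟨t, rfl⟩ := hφ b
    have htx : t • x ∈ LinearMap.ker π := by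
      rw [LinearMap.mem_ker, map_smul, ← IsScalarTower.algebraMap_smul B t]
      exact hbx
    obtain ⟨u, hu, v, hv, huv⟩ := Submodule.mem_sup.1 (ker_map_le (R := A) hφ htx)
    have hz : IsLocalizedModule.mk' f x s = IsLocalizedModule.mk' f u (⟨t, hb⟩ * s) +
        IsLocalizedModule.mk' f v (⟨t, hb⟩ * s) := by
      rw [← IsLocalizedModule.mk'_add, huv]
      exact (IsLocalizedModule.mk'_cancel_left (f := f) x (⟨t, hb⟩ : Q.primeCompl) s).symm
    rw [hz]
    refine Submodule.add_mem_sup ⟨u, hu, _, rfl⟩ ?_
    refine Submodule.smul_induction_on (p := fun v => ∀ s,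
      IsLocalizedModule.mk' f v s ∈ (IsLocalRing.maximalIdeal (Localization.AtPrime Q) •
        (⊤ : Submodule (Localization.AtPrime Q) _))) hv ?_ ?_ _
    · intro a ha y _ s
      rw [IsLocalizedModule.mk'_smul, ← IsScalarTower.algebraMap_smul (Localization.AtPrime Q) a]
      refine Submodule.smul_mem_smul ?_ Submodule.mem_top
      rw [← Localization.AtPrime.map_eq_maximalIdeal]
      refine Ideal.mem_map_of_mem _ ?_
      show φ.toRingHom a ∈ q
      rw [show φ.toRingHom a = 0 from ha]
      exact q.zero_mem
    · intro v w hv hw s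
      rw [IsLocalizedModule.mk'_add]
      exact add_mem (hv s) (hw s)
  · intro htop y
    obtain ⟨x, rfl⟩ := hπ y
    obtain ⟨u, hu, s, hs⟩ : f x ∈ S₀.localized' (Localization.AtPrime Q) Q.primeCompl f :=
      htop ▸ Submodule.mem_top
    rw [IsLocalizedModule.mk'_eq_iff, ← f.map_smul_of_tower] at hs
    obtain ⟨c, hc⟩ := IsLocalizedModule.exists_of_eq (S := Q.primeCompl) hs
    refine ⟨φ (c.1 * s.1), (c * s).2, ?_⟩
    rw [show φ (c.1 * s.1) = algebraMap (MvPolynomial (Fin n) A) B (c.1 * s.1) from rfl,
      IsScalarTower.algebraMap_smul, ← map_smul, mul_smul]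
    exact hle (show (c.1 • s.1 • x) ∈ S₀ by
      simp only [Submonoid.smul_def] at hc
      rw [← hc]
      exact S₀.smul_mem _ hu)

end EtLocalLib
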