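/-
An étale morphism is locally an open subscheme of a monogenic standard étale algebra.
-/
import Mathlib

set_option autoImplicit false
set_option backward.isDefEq.respectTransparency false

universe u

open AlgebraicGeometry CategoryTheory

namespace EtLocalLib

/-- A standard étale algebra is an open subscheme of `(R[t]/(f))[1/f']`. -/
theorem exists_openImmersion_standard {R : Type u} [CommRing R] (P : StandardEtalePair R) :
    ∃ ψ : Localization.Away (AdjoinRoot.mk P.f P.f.derivative) →ₐ[R]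
        Localization.Away (AdjoinRoot.mk P.f P.g),
      IsOpenImmersion (Spec.map (CommRingCat.ofHom ψ.toRingHom)) := by
  have hu : IsUnit (algebraMap (AdjoinRoot P.f) (Localization.Away (AdjoinRoot.mk P.f P.g))
      (AdjoinRoot.mk P.f P.f.derivative)) := by
    have hmap : P.HasMap (algebraMap (AdjoinRoot P.f) (Localization.Away (AdjoinRoot.mk P.f P.g))
        (.root P.f)) := by
      refine ⟨?_, ?_⟩
      · rw [Polynomial.aeval_algebraMap_apply, AdjoinRoot.aeval_eq, AdjoinRoot.mk_self, map_zero]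
      · rw [Polynomial.aeval_algebraMap_apply, AdjoinRoot.aeval_eq]
        exact IsLocalization.Away.algebraMap_isUnit ..
    have h := hmap.isUnit_derivative_f
    rwa [Polynomial.aeval_algebraMap_apply, AdjoinRoot.aeval_eq] at h
  obtain ⟨ψ, hψ⟩ : ∃ ψ : Localization.Away (AdjoinRoot.mk P.f P.f.derivative) →ₐ[R]
      Localization.Away (AdjoinRoot.mk P.f P.g), ∀ x, ψ (algebraMap (AdjoinRoot P.f) _ x) =
        algebraMap (AdjoinRoot P.f) _ x :=
    ⟨IsLocalization.Away.liftAlgHom (AdjoinRoot.mk P.f P.f.derivative)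
      (f := IsScalarTower.toAlgHom R (AdjoinRoot P.f) _) hu,
      fun x => IsLocalization.Away.lift_eq _ hu x⟩
  refine ⟨ψ, ?_⟩
  have hcomp : ψ.toRingHom.comp (algebraMap (AdjoinRoot P.f)
      (Localization.Away (AdjoinRoot.mk P.f P.f.derivative))) =
      algebraMap (AdjoinRoot P.f) (Localization.Away (AdjoinRoot.mk P.f P.g)) :=
    RingHom.ext hψ
  have : IsOpenImmersion (Spec.map (CommRingCat.ofHom (algebraMap (AdjoinRoot P.f)
      (Localization.Away (AdjoinRoot.mk P.f P.f.derivative))))) :=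
    IsOpenImmersion.of_isLocalization (AdjoinRoot.mk P.f P.f.derivative)
  have : IsOpenImmersion (Spec.map (CommRingCat.ofHom ψ.toRingHom) ≫
      Spec.map (CommRingCat.ofHom (algebraMap (AdjoinRoot P.f)
        (Localization.Away (AdjoinRoot.mk P.f P.f.derivative))))) := by
    rw [← Spec.map_comp, ← CommRingCat.ofHom_comp, hcomp]
    exact IsOpenImmersion.of_isLocalization (AdjoinRoot.mk P.f P.g)
  exact IsOpenImmersion.of_comp _ (Spec.map (CommRingCat.ofHom (algebraMap (AdjoinRoot P.f)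
      (Localization.Away (AdjoinRoot.mk P.f P.f.derivative)))))

theorem exists_monogenic {X Y : Scheme.{u}} (φ : X ⟶ Y) (x : X)
    (V : Y.Opens) (hV : IsAffineOpen V) (hxV : φ.base x ∈ V)
    (hφ : ∃ W : X.Opens, x ∈ W ∧ Etale (W.ι ≫ φ)) :
    ∃ (U : X.Opens) (hU : IsAffineOpen U) (_ : x ∈ U) (e : U ≤ φ ⁻¹ᵁ V)
      (p : Polynomial Γ(Y, V)) (_ : p.Monic)
      (j : U.toScheme ⟶ Spec (CommRingCat.of (Localization.Away (AdjoinRoot.mk p (Polynomial.derivative p))))),
      IsOpenImmersion j ∧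
        j ≫ Spec.map (CommRingCat.ofHom
            (algebraMap Γ(Y, V) (Localization.Away (AdjoinRoot.mk p (Polynomial.derivative p))))) =
          hU.isoSpec.hom ≫ Spec.map (φ.appLE V U e) := by
  obtain ⟨W, hxW, hW⟩ := hφ
  obtain ⟨U₀, hU₀, hxU₀, hle⟩ := exists_isAffineOpen_mem_and_subset (X := X)
    (U := φ ⁻¹ᵁ V ⊓ W) (x := x) ⟨hxV, hxW⟩
  have e₀ : U₀ ≤ φ ⁻¹ᵁ V := fun z hz => (hle hz).1
  have h0 : Etale (φ.resLE V U₀ e₀) := by
    have h1 : Etale (φ.resLE V U₀ e₀ ≫ V.ι) := by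
      have h2 : Etale (X.homOfLE (fun z hz => (hle hz).2 : U₀ ≤ W) ≫ W.ι ≫ φ) := inferInstance
      rwa [Scheme.homOfLE_ι_assoc, ← Scheme.Hom.resLE_comp_ι φ e₀] at h2
    exact MorphismProperty.of_postcomp (W := @Etale) (W' := @IsOpenImmersion) _ V.ι inferInstance h1
  have : IsAffine (V : Scheme.{u}) := hV
  have : IsAffine (U₀ : Scheme.{u}) := hU₀
  let := (φ.appLE V U₀ e₀).hom.toAlgebra
  have : Algebra.Etale Γ(Y, V) Γ(X, U₀) := by
    rw [HasRingHomProperty.iff_of_isAffine (P := @Etale)] at h0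
    exact RingHom.etale_algebraMap.mp
      ((RingHom.Etale.respectsIso.arrow_mk_iso_iff (arrowResLEAppIso φ V U₀ e₀)).mp h0)
  let q := (hU₀.primeIdealOf ⟨x, hxU₀⟩).asIdeal
  have : Algebra.IsEtaleAt Γ(Y, V) q := by
    have : Algebra.FormallyEtale Γ(X, U₀) (Localization.AtPrime q) :=
      .of_isLocalization q.primeCompl
    exact Algebra.FormallyEtale.comp _ Γ(X, U₀) _
  obtain ⟨a, ha, ⟨⟨pres⟩⟩⟩ := Algebra.IsEtaleAt.exists_isStandardEtale (R := Γ(Y, V)) q
  have hxa : x ∈ X.basicOpen a := by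
    have h3 := hU₀.fromSpec_primeIdealOf ⟨x, hxU₀⟩
    have h2 : hU₀.primeIdealOf ⟨x, hxU₀⟩ ∈ PrimeSpectrum.basicOpen a := ha
    rw [← hU₀.fromSpec_preimage_basicOpen] at h2
    change hU₀.fromSpec (hU₀.primeIdealOf ⟨x, hxU₀⟩) ∈ X.basicOpen a at h2
    rwa [h3] at h2
  have eU : X.basicOpen a ≤ φ ⁻¹ᵁ V := (X.basicOpen_le a).trans e₀
  obtain ⟨ψ, hψ⟩ := exists_openImmersion_standard pres.P
  let := hU₀.isLocalization_basicOpen a
  let σ := (Localization.algEquiv (Submonoid.powers a) Γ(X, X.basicOpen a))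
  let E : Localization.Away (AdjoinRoot.mk pres.f pres.P.g) ≃+* Γ(X, X.basicOpen a) :=
    (pres.P.equivAwayAdjoinRoot.symm.trans pres.equivRing.symm).toRingEquiv.trans σ.toRingEquiv
  have hE : ∀ r, E (algebraMap Γ(Y, V) _ r) = (φ.appLE V (X.basicOpen a) eU) r := fun r => by
    refine ((congrArg σ ((pres.P.equivAwayAdjoinRoot.symm.trans pres.equivRing.symm).commutes r)).trans
      ((congrArg σ (IsScalarTower.algebraMap_apply Γ(Y, V) Γ(X, U₀) (Localization.Away a) r)).trans
        (σ.commutes _))).trans ?_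
    exact congr($(φ.appLE_map e₀ (homOfLE (X.basicOpen_le a)).op) r)
  let m : CommRingCat.of (Localization.Away (AdjoinRoot.mk pres.f pres.f.derivative)) ⟶
      Γ(X, X.basicOpen a) :=
    CommRingCat.ofHom ψ.toRingHom ≫ E.toCommRingCatIso.hom
  have hm : IsOpenImmersion (Spec.map m) := by
    simp only [m, Spec.map_comp]
    infer_instance
  refine ⟨X.basicOpen a, hU₀.basicOpen a, hxa, eU, pres.f, pres.monic_f,
    (hU₀.basicOpen a).isoSpec.hom ≫ Spec.map m, inferInstance, ?_⟩
  rw [Category.assoc, ← Spec.map_comp]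
  congr 2
  ext r
  exact (congrArg E (ψ.commutes r)).trans (hE r)

end EtLocalLib
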